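import Mathlib
import Groth.Agent.FlatCrit.Local
import Groth.Agent.FlatLocus.Module
import Groth.Agent.FlatFibrePD.Basic

/-!
# Injectivity on the fibre gives injectivity and flat cokernel: the base change step
-/

set_option autoImplicit false
set_option synthInstance.maxHeartbeats 80000
set_option linter.all false

universe u

open TensorProduct Function

namespace Groth.Agent.FlatInjCoker

variable {R S M N : Type u} [CommRing R] [CommRing S] [Algebra R S]
  [AddCommGroup M] [Module S M] [AddCommGroup N] [Module S N]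

/-- `u` is injective on the fibre through `q`, locally at `q`. -/
def FibInj (R : Type u) [CommRing R] [Algebra R S] (u : M →ₗ[S] N) (q : Ideal S) : Prop :=
  ∀ x : M, u x ∈ (q.comap (algebraMap R S)).map (algebraMap R S) • (⊤ : Submodule S N) →
    ∃ s ∉ q, s • x ∈ (q.comap (algebraMap R S)).map (algebraMap R S) • (⊤ : Submodule S M)

/-- `u` is injective at `q` with cokernel flat over the base at `q`. -/
def InjFlat (R : Type u) [CommRing R] [Algebra R S] [Module R N] [IsScalarTower R S N]
    (u : M →ₗ[S] N) (q : Ideal S) [q.IsPrime] : Prop :=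
  (∀ x : M, u x = 0 → ∃ s ∉ q, s • x = 0) ∧
    Module.Flat R (LocalizedModule q.primeCompl (N ⧸ LinearMap.range u))

theorem mem_map_smul_iff {V : Type u} [AddCommGroup V] [Module S V] [Module R V] [IsScalarTower R S V]
    (I : Ideal R) (v : V) :
    v ∈ I.map (algebraMap R S) • (⊤ : Submodule S V) ↔ v ∈ I • (⊤ : Submodule R V) := by
  rw [← Submodule.restrictScalars_mem R (I.map (algebraMap R S) • (⊤ : Submodule S V)),
    Ideal.smul_restrictScalars, Submodule.restrictScalars_top]

section Noetherian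

variable [Module R M] [IsScalarTower R S M] [Module R N] [IsScalarTower R S N]

/-- The criterion over Noetherian rings. -/
theorem injFlat_of_noetherian [IsNoetherianRing S] [Module.Finite S M] (q : Ideal S) [q.IsPrime]
    [Module.Flat R (LocalizedModule q.primeCompl N)] (u : M →ₗ[S] N) (hu : FibInj R u q) :
    InjFlat R u q := by
  classical
  let p := q.comap (algebraMap R S)
  let Rp := Localization.AtPrime p
  let Sq := Localization.AtPrime q
  let φ : Rp →+* Sq := Localization.localRingHom p q (algebraMap R S) rfl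
  letI : Algebra Rp Sq := φ.toAlgebra
  haveI : IsScalarTower R Rp Sq := IsScalarTower.of_algebraMap_eq fun r => by
    change _ = φ _
    rw [Localization.localRingHom_to_map, ← IsScalarTower.algebraMap_apply R S Sq]
  haveI : IsLocalHom (algebraMap Rp Sq) := Localization.isLocalHom_localRingHom _ _ _ _
  let Mq := LocalizedModule q.primeCompl M
  let Nq := LocalizedModule q.primeCompl N
  letI : Module Rp Mq := Module.compHom Mq (algebraMap Rp Sq)
  haveI : IsScalarTower Rp Sq Mq := IsScalarTower.of_compHom _ _ Mq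
  letI : Module Rp Nq := Module.compHom Nq (algebraMap Rp Sq)
  haveI : IsScalarTower Rp Sq Nq := IsScalarTower.of_compHom _ _ Nq
  haveI : IsScalarTower R Rp Mq := IsScalarTower.of_algebraMap_smul fun r z => by
    show algebraMap Rp Sq (algebraMap R Rp r) • z = r • z
    rw [← IsScalarTower.algebraMap_apply, algebraMap_smul]
  haveI : IsScalarTower R Rp Nq := IsScalarTower.of_algebraMap_smul fun r z => by
    show algebraMap Rp Sq (algebraMap R Rp r) • z = r • z
    rw [← IsScalarTower.algebraMap_apply, algebraMap_smul]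
  haveI : Module.Flat Rp Nq := (Module.flat_iff_of_isLocalization Rp p.primeCompl Nq).2 inferInstance
  haveI : IsNoetherianRing Sq := IsLocalization.isNoetherianRing q.primeCompl Sq inferInstance
  haveI : Module.Finite Sq Mq := Module.Finite.of_isLocalizedModule q.primeCompl (LocalizedModule.mkLinearMap q.primeCompl M)
  let uq : Mq →ₗ[Sq] Nq := LocalizedModule.map q.primeCompl u
  let v : Mq →ₗ[Rp] Nq := uq.restrictScalars Rp
  let m := IsLocalRing.maximalIdeal Rp
  have huq : ∀ x : M, uq (LocalizedModule.mkLinearMap q.primeCompl M x) =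
      LocalizedModule.mkLinearMap q.primeCompl N (u x) := fun x => LocalizedModule.map_mk _ u x 1
  -- membership in `m • ⊤`
  have hmem : ∀ {W : Type u} [AddCommGroup W] [Module S W] (w : W),
      LocalizedModule.mkLinearMap q.primeCompl W w ∈
        (p.map (algebraMap R S)).map (algebraMap S Sq) • (⊤ : Submodule Sq (LocalizedModule q.primeCompl W)) ↔
      ∃ s ∉ q, s • w ∈ p.map (algebraMap R S) • (⊤ : Submodule S W) := by
    intro W _ _ w
    have h1 : (p.map (algebraMap R S)).map (algebraMap S Sq) • (⊤ : Submodule Sq (LocalizedModule q.primeCompl W)) =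
        (p.map (algebraMap R S) • (⊤ : Submodule S W)).localized q.primeCompl := by
      rw [Submodule.localized, Submodule.localized'_smul, Submodule.localized'_top,
        Ideal.localized'_eq_map]
    rw [h1]
    constructor
    · intro h
      obtain ⟨x, hx, s, hs⟩ := h
      rw [IsLocalizedModule.mk'_eq_iff] at hs
      obtain ⟨c, hc⟩ := (IsLocalizedModule.eq_iff_exists q.primeCompl (LocalizedModule.mkLinearMap q.primeCompl W)).1
        (hs.trans (map_smul (LocalizedModule.mkLinearMap q.primeCompl W) (s : S) w).symm)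
      refine ⟨(c : S) * s, q.primeCompl.mul_mem c.2 s.2, ?_⟩
      rw [mul_smul]
      exact (show (c : S) • ((s : S) • w) = (c : S) • x from hc.symm) ▸ Submodule.smul_mem _ _ hx
    · rintro ⟨s, hs, hsw⟩
      refine ⟨s • w, hsw, ⟨s, hs⟩, ?_⟩
      rw [IsLocalizedModule.mk'_eq_iff, map_smul]
      rfl
  have hmap : m.map (algebraMap Rp Sq) = (p.map (algebraMap R S)).map (algebraMap S Sq) := by
    rw [show m = p.map (algebraMap R Rp) from Localization.AtPrime.map_eq_maximalIdeal.symm,
      Ideal.map_map, Ideal.map_map,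
      ← IsScalarTower.algebraMap_eq, ← IsScalarTower.algebraMap_eq]
  have hv : ∀ z : Mq, v z ∈ m • (⊤ : Submodule Rp Nq) → z ∈ m • (⊤ : Submodule Rp Mq) := by
    intro z hz
    rw [← mem_map_smul_iff (S := Sq), hmap] at hz ⊢
    induction z using LocalizedModule.induction_on with
    | h x t =>
      have ht : IsUnit (algebraMap S Sq t) := IsLocalization.map_units Sq t
      have hx : LocalizedModule.mk x t = (↑ht.unit⁻¹ : Sq) • LocalizedModule.mkLinearMap q.primeCompl M x := by
        apply ht.smul_left_cancel.1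
        rw [smul_smul, IsUnit.mul_val_inv, one_smul, algebraMap_smul, LocalizedModule.mkLinearMap_apply,
          LocalizedModule.smul'_mk, ← Submonoid.smul_def, LocalizedModule.mk_cancel]
      rw [hx] at hz ⊢
      refine Submodule.smul_mem _ _ ((hmem x).2 ?_)
      have hz' := Submodule.smul_mem _ (algebraMap S Sq t) hz
      change algebraMap S Sq t • uq ((↑ht.unit⁻¹ : Sq) • _) ∈ _ at hz'
      rw [map_smul, smul_smul, IsUnit.mul_val_inv, one_smul, huq, hmem] at hz'
      obtain ⟨s, hs, hsx⟩ := hz'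
      rw [← map_smul] at hsx
      obtain ⟨s', hs', hsx'⟩ := hu _ hsx
      exact ⟨s' * s, q.primeCompl.mul_mem hs' hs, by rwa [mul_smul]⟩
  have hk : Injective (v.lTensor (IsLocalRing.ResidueField Rp)) := by
    let eM := TensorProduct.quotTensorEquivQuotSMul Mq m
    let eN := TensorProduct.quotTensorEquivQuotSMul Nq m
    change Injective (v.lTensor (Rp ⧸ m))
    rw [injective_iff_map_eq_zero]
    intro z hz
    obtain ⟨w, rfl⟩ := TensorProduct.mk_surjective Rp Mq (Rp ⧸ m) Ideal.Quotient.mk_surjective z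
    have h1 := congrArg eN hz
    rw [TensorProduct.mk_apply, LinearMap.lTensor_tmul, map_zero,
      show (1 : Rp ⧸ m) = Ideal.Quotient.mk m 1 from (map_one _).symm,
      TensorProduct.quotTensorEquivQuotSMul_mk_tmul, one_smul, Submodule.Quotient.mk_eq_zero] at h1
    apply eM.injective
    rw [TensorProduct.mk_apply, map_zero, show (1 : Rp ⧸ m) = Ideal.Quotient.mk m 1 from (map_one _).symm,
      TensorProduct.quotTensorEquivQuotSMul_mk_tmul, one_smul, Submodule.Quotient.mk_eq_zero]
    exact hv w h1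
  have hjac : m.map (algebraMap Rp Sq) ≤ Ideal.jacobson ⊥ := by
    rw [IsLocalRing.jacobson_eq_maximalIdeal ⊥ bot_ne_top]
    exact Ideal.map_le_iff_le_comap.2 fun x hx => map_nonunit (algebraMap Rp Sq) x hx
  obtain ⟨hinj, hflat⟩ := FlatCrit.injective_and_flat_coker (S := Sq) hjac v hk
  refine ⟨fun x hx => ?_, ?_⟩
  · have h0 : LocalizedModule.mkLinearMap q.primeCompl M x = 0 := hinj <| by
      change uq _ = uq 0
      rw [huq, hx, map_zero, map_zero]
    obtain ⟨s, hs⟩ := (IsLocalizedModule.eq_zero_iff q.primeCompl _).1 h0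
    exact ⟨s, s.2, hs⟩
  · haveI : Module.Flat R (Nq ⧸ LinearMap.range v) := Module.Flat.trans R Rp _
    let π := (LinearMap.range u).mkQ
    let πq := IsLocalizedModule.map q.primeCompl (LocalizedModule.mkLinearMap q.primeCompl N)
      (LocalizedModule.mkLinearMap q.primeCompl (N ⧸ LinearMap.range u)) π
    have hπq : Surjective πq :=
      IsLocalizedModule.map_surjective _ _ _ _ (Submodule.mkQ_surjective _)
    have hex : Exact (IsLocalizedModule.map q.primeCompl (LocalizedModule.mkLinearMap q.primeCompl M)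
        (LocalizedModule.mkLinearMap q.primeCompl N) u) πq :=
      IsLocalizedModule.map_exact _ _ _ _ u π (LinearMap.exact_map_mkQ_range u)
    have heq : IsLocalizedModule.map q.primeCompl (LocalizedModule.mkLinearMap q.primeCompl M)
        (LocalizedModule.mkLinearMap q.primeCompl N) u = uq.restrictScalars S := by
      refine IsLocalizedModule.ext q.primeCompl (LocalizedModule.mkLinearMap q.primeCompl M)
        (IsLocalizedModule.map_units (LocalizedModule.mkLinearMap q.primeCompl N)) ?_
      rw [IsLocalizedModule.map_comp]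
      exact LinearMap.ext fun x => (huq x).symm
    rw [heq] at hex
    let e1 : (Nq ⧸ LinearMap.range v) →ₗ[R] LocalizedModule q.primeCompl (N ⧸ LinearMap.range u) :=
      ((LinearMap.range v).restrictScalars R).liftQ (πq.restrictScalars R) (by
        rintro y ⟨x, rfl⟩
        exact hex.apply_apply_eq_zero x) ∘ₗ
      ((Submodule.Quotient.restrictScalarsEquiv R (LinearMap.range v)).symm : _ →ₗ[R] _)
    have he1 : ∀ y, e1 (Submodule.Quotient.mk y) = πq y := fun y => rfl
    refine Module.Flat.of_linearEquiv (LinearEquiv.ofBijective e1 ⟨?_, ?_⟩).symm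
    · rw [injective_iff_map_eq_zero]
      intro z hz
      obtain ⟨y, rfl⟩ := Submodule.Quotient.mk_surjective _ z
      rw [he1] at hz
      obtain ⟨x, rfl⟩ := (hex y).1 hz
      exact (Submodule.Quotient.mk_eq_zero _).2 ⟨x, rfl⟩
    · intro z
      obtain ⟨y, rfl⟩ := hπq z
      exact ⟨Submodule.Quotient.mk y, he1 y⟩

end Noetherian

section Descend

variable {R₁ S₁ : Type u} [CommRing R₁] [CommRing S₁] [Algebra R₁ R] [Algebra R₁ S₁] [Algebra R₁ S]
  [Algebra S₁ S] [IsScalarTower R₁ R S] [IsScalarTower R₁ S₁ S] [Algebra.IsPushout R₁ R S₁ S]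
  {M₁ N₁ : Type u} [AddCommGroup M₁] [Module S₁ M₁] [Module R₁ M₁] [IsScalarTower R₁ S₁ M₁]
  [AddCommGroup N₁] [Module S₁ N₁] [Module R₁ N₁] [IsScalarTower R₁ S₁ N₁]

set_option maxHeartbeats 800000 in
variable (R S) in
/-- Vanishing at a point of the fibre descends along extensions of the residue field. -/
theorem exists_smul_mem_of_baseChange (q : Ideal S) [q.IsPrime] (x : M₁) {s : S} (hs : s ∉ q)
    (h : s • (1 : S) ⊗ₜ[S₁] x ∈ (q.comap (algebraMap R S)).map (algebraMap R S) • (⊤ : Submodule S (S ⊗[S₁] M₁))) :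
    ∃ t ∉ q.comap (algebraMap S₁ S), t • x ∈
      ((q.comap (algebraMap S₁ S)).comap (algebraMap R₁ S₁)).map (algebraMap R₁ S₁) • (⊤ : Submodule S₁ M₁) := by
  classical
  let p := q.comap (algebraMap R S)
  let q₁ := q.comap (algebraMap S₁ S)
  let p₁ := q₁.comap (algebraMap R₁ S₁)
  have hp₁ : p₁ = p.comap (algebraMap R₁ R) := by
    simp only [p₁, q₁, p, Ideal.comap_comap, ← IsScalarTower.algebraMap_eq]
  let K := p.ResidueField
  let K₁ := p₁.ResidueField
  letI : Algebra K₁ K := (Ideal.ResidueField.map p₁ p (algebraMap R₁ R) hp₁).toAlgebra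
  haveI : IsScalarTower R₁ K₁ K := IsScalarTower.of_algebraMap_eq fun r => by
    change _ = Ideal.ResidueField.map p₁ p (algebraMap R₁ R) hp₁ _
    rw [Ideal.ResidueField.map_algebraMap, ← IsScalarTower.algebraMap_apply R₁ R K]
  let k := q.ResidueField
  letI : Algebra K k := (Ideal.ResidueField.map p q (algebraMap R S) rfl).toAlgebra
  have hkR : ∀ r, algebraMap K k (algebraMap R K r) = algebraMap S k (algebraMap R S r) := fun r => by
    change Ideal.ResidueField.map p q (algebraMap R S) rfl _ = _
    rw [Ideal.ResidueField.map_algebraMap]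
  -- write `s`
  obtain ⟨z, hz⟩ : ∃ z, Algebra.IsPushout.equiv R₁ R S₁ S z = s := ⟨_, AlgEquiv.apply_symm_apply _ s⟩
  obtain ⟨F, hF⟩ := TensorProduct.exists_finset z
  have hs' : s = ∑ i ∈ F, algebraMap R S i.1 * algebraMap S₁ S i.2 := by
    rw [← hz, hF, map_sum]
    exact Finset.sum_congr rfl fun i _ => Algebra.IsPushout.equiv_tmul _ _ _ _ i.1 i.2
  let e := Algebra.IsPushout.cancelBaseChange R₁ R S₁ S M₁
  let ψ : R ⊗[R₁] M₁ →ₗ[R₁] K ⊗[R₁] M₁ := (IsScalarTower.toAlgHom R₁ R K).toLinearMap.rTensor M₁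
  have hψ : ∀ r w, ψ (r • w) = algebraMap R K r • ψ w := by
    intro r w
    induction w with
    | zero => simp
    | add a b ha hb => simp only [smul_add, map_add, ha, hb]
    | tmul a b => simp [ψ, smul_tmul', Algebra.smul_def]
  have hψ0 : ∀ w ∈ p • (⊤ : Submodule R (R ⊗[R₁] M₁)), ψ w = 0 := by
    intro w hw
    induction hw using Submodule.smul_induction_on' with
    | smul r hr y _ => rw [hψ, Ideal.algebraMap_residueField_eq_zero.2 hr, zero_smul]
    | add a _ b _ ha hb => rw [map_add, ha, hb, add_zero]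
  have h0 : ∑ i ∈ F, algebraMap R K i.1 ⊗ₜ[R₁] (i.2 • x) = 0 := by
    rw [mem_map_smul_iff] at h
    have h1 := Submodule.mem_map_of_mem (f := e.toLinearMap) h
    rw [Submodule.map_smul''] at h1
    have h2 := hψ0 _ (Submodule.smul_mono le_rfl le_top h1)
    rw [hs', Finset.sum_smul, map_sum, map_sum] at h2
    refine Eq.trans (Finset.sum_congr rfl fun i _ => ?_) h2
    have hb : (algebraMap R S i.1 * algebraMap S₁ S i.2) • ((1 : S) ⊗ₜ[S₁] x) =
        i.1 • ((1 : S) ⊗ₜ[S₁] (i.2 • x)) := by
      rw [mul_smul, algebraMap_smul, algebraMap_smul, tmul_smul]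
    simp only [LinearEquiv.coe_coe]
    rw [hb, map_smul, show e ((1 : S) ⊗ₜ[S₁] (i.2 • x)) = (1 : R) ⊗ₜ[R₁] (i.2 • x) from Algebra.IsPushout.cancelBaseChange_tmul _ _ _ _ _ _, hψ]
    simp [ψ, smul_tmul', Algebra.smul_def]
  -- a functional detecting `s` in the residue field of `q`
  let b := Module.Free.chooseBasis K₁ K
  have hne : algebraMap S k s ≠ 0 := fun h => hs (Ideal.algebraMap_residueField_eq_zero.1 h)
  obtain ⟨j, hj⟩ : ∃ j, ∀ (c : R₁) (a : R × S₁ → R₁), c ∉ p₁ →
      (∀ i ∈ F, algebraMap R₁ K₁ (a i) = algebraMap R₁ K₁ c * b.repr (algebraMap R K i.1) j) →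
      (∑ i ∈ F, algebraMap R₁ S₁ (a i) * i.2) ∉ q₁ := by
    by_contra hcon
    push Not at hcon
    apply hne
    choose c a hc ha hmem using hcon
    have key : ∀ j, ∑ i ∈ F, algebraMap K k (algebraMap K₁ K (b.repr (algebraMap R K i.1) j)) *
        algebraMap S k (algebraMap S₁ S i.2) = 0 := by
      intro j
      have hc0 : algebraMap K k (algebraMap K₁ K (algebraMap R₁ K₁ (c j))) ≠ 0 := by
        exact (map_ne_zero _).2 ((map_ne_zero _).2 fun h => hc j (Ideal.algebraMap_residueField_eq_zero.1 h))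
      apply mul_left_cancel₀ hc0
      rw [mul_zero, Finset.mul_sum]
      have := Ideal.algebraMap_residueField_eq_zero (I := q).2 (Ideal.mem_comap.1 (hmem j))
      rw [map_sum, map_sum] at this
      refine Eq.trans (Finset.sum_congr rfl fun i hi => ?_) this
      rw [← mul_assoc, ← map_mul, ← map_mul, ← ha j i hi, map_mul, map_mul,
        ← IsScalarTower.algebraMap_apply R₁ K₁ K, IsScalarTower.algebraMap_apply R₁ R K, hkR,
        ← IsScalarTower.algebraMap_apply R₁ R S, ← IsScalarTower.algebraMap_apply R₁ S₁ S]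
    have hrepr : ∀ y : K, ∀ T : Finset (Module.Free.ChooseBasisIndex K₁ K), (b.repr y).support ⊆ T →
        y = ∑ j ∈ T, algebraMap K₁ K (b.repr y j) * b j := by
      intro y T hT
      conv_lhs => rw [← b.linearCombination_repr y]
      rw [Finsupp.linearCombination_apply,
        Finsupp.sum_of_support_subset (b.repr y) hT (fun i a => a • b i) (fun _ _ => zero_smul _ _)]
      exact Finset.sum_congr rfl fun _ _ => Algebra.smul_def _ _
    let T := F.biUnion fun i => (b.repr (algebraMap R K i.1)).support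
    calc algebraMap S k s = ∑ i ∈ F, algebraMap K k (algebraMap R K i.1) * algebraMap S k (algebraMap S₁ S i.2) := by
          simp [hs', hkR]
      _ = ∑ i ∈ F, ∑ j ∈ T, algebraMap K k (b j) *
            (algebraMap K k (algebraMap K₁ K (b.repr (algebraMap R K i.1) j)) * algebraMap S k (algebraMap S₁ S i.2)) := by
          refine Finset.sum_congr rfl fun i hi => ?_
          conv_lhs => rw [hrepr (algebraMap R K i.1) T (Finset.subset_biUnion_of_mem
            (fun i => (b.repr (algebraMap R K i.1)).support) hi), map_sum, Finset.sum_mul]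
          exact Finset.sum_congr rfl fun j _ => by rw [map_mul]; ring
      _ = 0 := by
          rw [Finset.sum_comm]
          simp [← Finset.mul_sum, key]
  -- apply the functional
  let L : K →ₗ[R₁] K₁ := ((Finsupp.lapply j).comp b.repr.toLinearMap).restrictScalars R₁
  have h1 : ∑ i ∈ F, b.repr (algebraMap R K i.1) j ⊗ₜ[R₁] (i.2 • x) = 0 := by
    simpa [L] using congrArg (L.rTensor M₁) h0
  -- clear denominators
  obtain ⟨⟨d, hd⟩, hd'⟩ := IsLocalization.exist_integer_multiples (M := nonZeroDivisors (R₁ ⧸ p₁))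
    (S := K₁) F fun i => b.repr (algebraMap R K i.1) j
  obtain ⟨c, rfl⟩ := Ideal.Quotient.mk_surjective d
  have hc : c ∉ p₁ := fun h => nonZeroDivisors.ne_zero hd (Ideal.Quotient.eq_zero_iff_mem.2 h)
  have ha : ∀ i ∈ F, ∃ a : R₁, algebraMap R₁ K₁ a = algebraMap R₁ K₁ c * b.repr (algebraMap R K i.1) j := by
    intro i hi
    obtain ⟨y, hy⟩ := hd' i hi
    obtain ⟨a, rfl⟩ := Ideal.Quotient.mk_surjective y
    refine ⟨a, ?_⟩
    rw [IsScalarTower.algebraMap_apply R₁ (R₁ ⧸ p₁) K₁ a, IsScalarTower.algebraMap_apply R₁ (R₁ ⧸ p₁) K₁ c,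
      Ideal.Quotient.algebraMap_eq, ← Algebra.smul_def]
    exact hy
  choose! a ha using ha
  let t := ∑ i ∈ F, algebraMap R₁ S₁ (a i) * i.2
  have ht : t ∉ q₁ := hj c a hc ha
  have h2 : (1 : K₁) ⊗ₜ[R₁] (t • x) = 0 := by
    have := congrArg (fun z => algebraMap R₁ K₁ c • z) h1
    simp only [Finset.smul_sum, smul_zero, smul_tmul', smul_eq_mul] at this
    rw [Finset.sum_smul, tmul_sum]
    refine Eq.trans (Finset.sum_congr rfl fun i hi => ?_) this
    rw [← ha i hi, mul_smul, algebraMap_smul, tmul_smul, smul_tmul', Algebra.smul_def, mul_one]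
  -- back to the quotient
  have h3 : ∃ c' ∉ p₁, c' • (t • x) ∈ p₁ • (⊤ : Submodule R₁ M₁) := by
    let e₁ := (TensorProduct.quotTensorEquivQuotSMul M₁ p₁).symm
    let ι : (R₁ ⧸ p₁) →ₗ[R₁] K₁ := (IsScalarTower.toAlgHom R₁ (R₁ ⧸ p₁) K₁).toLinearMap
    haveI : IsLocalizedModule p₁.primeCompl ι := by
      have : IsLocalizedModule (nonZeroDivisors (R₁ ⧸ p₁)) (Algebra.linearMap (R₁ ⧸ p₁) K₁) := inferInstance
      constructor
      · intro r
        rw [Module.End.isUnit_iff]
        have hr : algebraMap R₁ K₁ r ≠ 0 := fun h => r.2 (Ideal.algebraMap_residueField_eq_zero.1 h)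
        refine ⟨fun a b hab => ?_, fun a => ⟨(algebraMap R₁ K₁ r)⁻¹ * a, ?_⟩⟩
        · simp only [Module.algebraMap_end_apply, Algebra.smul_def] at hab
          exact mul_left_cancel₀ hr hab
        · simp [Module.algebraMap_end_apply, Algebra.smul_def, mul_inv_cancel_left₀ hr]
      · intro y
        obtain ⟨⟨a, ⟨d, hd⟩⟩, hy⟩ := IsLocalization.surj (nonZeroDivisors (R₁ ⧸ p₁)) y
        obtain ⟨d, rfl⟩ := Ideal.Quotient.mk_surjective d
        refine ⟨⟨a, ⟨d, fun h => nonZeroDivisors.ne_zero hd (Ideal.Quotient.eq_zero_iff_mem.2 h)⟩⟩, ?_⟩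
        change d • y = algebraMap (R₁ ⧸ p₁) K₁ a
        rw [← hy, Algebra.smul_def, mul_comm, IsScalarTower.algebraMap_apply R₁ (R₁ ⧸ p₁) K₁]
        rfl
      · intro a b hab
        exact ⟨1, congrArg ((1 : p₁.primeCompl) • ·)
          (FaithfulSMul.algebraMap_injective (R₁ ⧸ p₁) K₁ hab)⟩
    haveI : IsLocalizedModule p₁.primeCompl (TensorProduct.AlgebraTensorModule.rTensor R₁ M₁ ι) := inferInstance
    have h4 : TensorProduct.AlgebraTensorModule.rTensor R₁ M₁ ι ((1 : R₁ ⧸ p₁) ⊗ₜ (t • x)) = 0 := by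
      simpa [ι] using h2
    obtain ⟨c', hc'⟩ := (IsLocalizedModule.eq_zero_iff p₁.primeCompl _).1 h4
    refine ⟨c', c'.2, ?_⟩
    have h5 := congrArg (TensorProduct.quotTensorEquivQuotSMul M₁ p₁) hc'
    rw [Submonoid.smul_def, map_smul, map_zero, show (1 : R₁ ⧸ p₁) = Ideal.Quotient.mk p₁ 1 from (map_one _).symm,
      TensorProduct.quotTensorEquivQuotSMul_mk_tmul, one_smul, ← Submodule.Quotient.mk_smul,
      Submodule.Quotient.mk_eq_zero] at h5
    exact h5
  obtain ⟨c', hc', h6⟩ := h3
  refine ⟨algebraMap R₁ S₁ c' * t, q₁.primeCompl.mul_mem (fun h => hc' h) ht, ?_⟩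
  rw [mem_map_smul_iff, mul_smul, algebraMap_smul]
  exact h6

/-- The criterion, for data coming from a Noetherian model. -/
theorem injFlat_baseChange [IsNoetherianRing S₁] [Module.Finite S₁ M₁]
    (u : M₁ →ₗ[S₁] N₁) (q : Ideal S) [q.IsPrime]
    [Module.Flat R₁ (LocalizedModule (q.comap (algebraMap S₁ S)).primeCompl N₁)]
    (hu : FibInj R (u.baseChange S) q) :
    InjFlat R (u.baseChange S) q := by
  classical
  let q₁ := q.comap (algebraMap S₁ S)
  have hu₁ : FibInj R₁ u q₁ := by
    intro x hx
    have hle : ((q₁.comap (algebraMap R₁ S₁)).map (algebraMap R₁ S₁)).map (algebraMap S₁ S) ≤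
        (q.comap (algebraMap R S)).map (algebraMap R S) := by
      rw [Ideal.map_map, ← IsScalarTower.algebraMap_eq, IsScalarTower.algebraMap_eq R₁ R S, ← Ideal.map_map]
      refine Ideal.map_mono (Ideal.map_le_iff_le_comap.2 ?_)
      simp only [q₁, Ideal.comap_comap, ← IsScalarTower.algebraMap_eq]
      exact le_rfl
    have hx' : (u.baseChange S) (1 ⊗ₜ x) ∈ (q.comap (algebraMap R S)).map (algebraMap R S) •
        (⊤ : Submodule S (S ⊗[S₁] N₁)) := by
      rw [LinearMap.baseChange_tmul]
      refine Submodule.smul_induction_on hx (fun r hr y _ => ?_) fun a b ha hb => ?_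
      · rw [tmul_smul, ← algebraMap_smul S r]
        exact Submodule.smul_mem_smul (hle (Ideal.mem_map_of_mem _ hr)) Submodule.mem_top
      · rw [tmul_add]
        exact Submodule.add_mem _ ha hb
    obtain ⟨s, hs, hsx⟩ := hu _ hx'
    exact exists_smul_mem_of_baseChange R S q x hs hsx
  obtain ⟨hinj, hflat⟩ := injFlat_of_noetherian q₁ u hu₁
  let C := N₁ ⧸ LinearMap.range u
  let π := (LinearMap.range u).mkQ
  constructor
  · intro z hz
    let gM := LocalizedModule.mkLinearMap q₁.primeCompl M₁
    let gN := LocalizedModule.mkLinearMap q₁.primeCompl N₁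
    let gC := LocalizedModule.mkLinearMap q₁.primeCompl C
    let uq := IsLocalizedModule.map q₁.primeCompl gM gN u
    let πq := IsLocalizedModule.map q₁.primeCompl gN gC π
    have huq : Injective uq := by
      rw [injective_iff_map_eq_zero]
      intro y hy
      obtain ⟨⟨x, s⟩, rfl⟩ := IsLocalizedModule.mk'_surjective q₁.primeCompl gM y
      simp only [Function.uncurry_apply_pair, uq] at hy ⊢
      rw [IsLocalizedModule.map_mk', IsLocalizedModule.mk'_eq_zero] at hy
      obtain ⟨c, hc⟩ := (IsLocalizedModule.eq_zero_iff q₁.primeCompl gN).1 hy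
      rw [Submonoid.smul_def, ← map_smul] at hc
      obtain ⟨s', hs', hx⟩ := hinj _ hc
      rw [IsLocalizedModule.mk'_eq_zero, IsLocalizedModule.eq_zero_iff q₁.primeCompl gM]
      exact ⟨⟨s' * c, q₁.primeCompl.mul_mem hs' c.2⟩, by rw [Submonoid.smul_def, ← hx, mul_smul]⟩
    have h := FlatFibrePD.lTensor_injective_of_pushout (R₀ := R₁) (R := R) (S₀ := S₁) (S := S) huq
      (IsLocalizedModule.map_exact _ gM gN gC u π (LinearMap.exact_map_mkQ_range u))
      (IsLocalizedModule.map_surjective _ gN gC π (Submodule.mkQ_surjective _))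
    have hnat : uq.lTensor S ∘ₗ gM.lTensor S = gN.lTensor S ∘ₗ u.lTensor S := by
      rw [← LinearMap.lTensor_comp, ← LinearMap.lTensor_comp]
      congr 1
      exact IsLocalizedModule.map_comp _ _ _ u
    have h0 : gM.lTensor S z = 0 := h <| by
      rw [map_zero, ← LinearMap.comp_apply, hnat, LinearMap.comp_apply,
        show u.lTensor S z = 0 from hz, map_zero]
    have h1 : TensorProduct.AlgebraTensorModule.rTensor S₁ S gM (TensorProduct.comm S₁ S M₁ z) = 0 := by
      have : ∀ z, TensorProduct.AlgebraTensorModule.rTensor S₁ S gM (TensorProduct.comm S₁ S M₁ z) =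
          TensorProduct.comm S₁ S _ (gM.lTensor S z) := by
        intro z
        induction z with
        | zero => simp
        | add a b ha hb => simp only [map_add, ha, hb]
        | tmul a b => simp
      rw [this, h0, map_zero]
    obtain ⟨t, ht⟩ := (IsLocalizedModule.eq_zero_iff q₁.primeCompl _).1 h1
    refine ⟨algebraMap S₁ S t, fun h => t.2 h, ?_⟩
    rw [algebraMap_smul]
    apply (TensorProduct.comm S₁ S M₁).injective
    rw [map_smul, map_zero]
    exact ht
  · haveI : Module.Flat R₁ (LocalizedModule q₁.primeCompl C) := hflat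
    have hC : Module.Flat R (FlatLocus.Loc S₁ C q) :=
      FlatLocus.flat_loc_of_flat (R := R₁) q q₁ le_rfl
    have hex : Exact (u.baseChange S) (π.baseChange S) :=
      lTensor_exact S (LinearMap.exact_map_mkQ_range u) (Submodule.mkQ_surjective _)
    let e : ((S ⊗[S₁] N₁) ⧸ LinearMap.range (u.baseChange S)) ≃ₗ[S] S ⊗[S₁] C :=
      Submodule.quotEquivOfEq _ _ (LinearMap.exact_iff.1 hex).symm ≪≫ₗ
        LinearMap.quotKerEquivOfSurjective _ (LinearMap.lTensor_surjective S (Submodule.mkQ_surjective _))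
    exact Module.Flat.of_linearEquiv ((IsLocalizedModule.linearEquiv q.primeCompl
      (LocalizedModule.mkLinearMap q.primeCompl _)
      (LocalizedModule.mkLinearMap q.primeCompl (S ⊗[S₁] C) ∘ₗ e.toLinearMap)).restrictScalars R)

end Descend

end Groth.Agent.FlatInjCoker
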