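import Mathlib
import Groth.Agent.FlatInjCoker.Noetherian
import Groth.Agent.FlatLocus.General

/-!
# Injectivity on the fibre gives injectivity and flat cokernel (EGA IV 11.3.7)
-/

set_option autoImplicit false
set_option synthInstance.maxHeartbeats 80000
set_option linter.all false

universe u

open TensorProduct Function

namespace Groth.Agent.FlatInjCoker

section Congr

variable {R S M N M' N' : Type u} [CommRing R] [CommRing S] [Algebra R S]
  [AddCommGroup M] [Module S M] [AddCommGroup N] [Module S N]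
  [AddCommGroup M'] [Module S M'] [AddCommGroup N'] [Module S N']

theorem mem_smul_top_equiv_iff (e : M ≃ₗ[S] M') (I : Ideal S) (x : M) :
    e x ∈ I • (⊤ : Submodule S M') ↔ x ∈ I • (⊤ : Submodule S M) := by
  have h : (I • (⊤ : Submodule S M)).map e.toLinearMap = I • (⊤ : Submodule S M') := by
    rw [Submodule.map_smul'', Submodule.map_top, LinearEquiv.range]
  rw [← h]
  exact Function.Injective.mem_set_image e.injective

variable {u : M →ₗ[S] N} {u' : M' →ₗ[S] N'} (eM : M ≃ₗ[S] M') (eN : N ≃ₗ[S] N')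
  (h : ∀ x, eN (u x) = u' (eM x))
include h

theorem FibInj.congr {q : Ideal S} (hu : FibInj R u q) : FibInj R u' q := by
  intro y hy
  obtain ⟨x, rfl⟩ := eM.surjective y
  rw [← h, mem_smul_top_equiv_iff] at hy
  obtain ⟨s, hs, hsx⟩ := hu x hy
  exact ⟨s, hs, by rw [← map_smul, mem_smul_top_equiv_iff]; exact hsx⟩

theorem InjFlat.congr [Module R N] [IsScalarTower R S N] [Module R N'] [IsScalarTower R S N']
    {q : Ideal S} [q.IsPrime] (hu : InjFlat R u q) : InjFlat R u' q := by
  obtain ⟨hinj, hflat⟩ := hu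
  refine ⟨fun y hy => ?_, ?_⟩
  · obtain ⟨x, rfl⟩ := eM.surjective y
    rw [← h, LinearEquiv.map_eq_zero_iff] at hy
    obtain ⟨s, hs, hsx⟩ := hinj x hy
    exact ⟨s, hs, by rw [← map_smul, hsx, map_zero]⟩
  · refine Module.Flat.of_linearEquiv (FlatLocus.localizedEquiv (S := R) (C := S)
      (M := N ⧸ LinearMap.range u) (M' := N' ⧸ LinearMap.range u')
      (Submodule.Quotient.equiv (LinearMap.range u) (LinearMap.range u') eN ?_) q.primeCompl).symm
    ext y
    simp only [Submodule.mem_map, LinearMap.mem_range, LinearEquiv.coe_coe]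
    constructor
    · rintro ⟨_, ⟨x, rfl⟩, rfl⟩
      exact ⟨eM x, (h x).symm⟩
    · rintro ⟨x, rfl⟩
      obtain ⟨x, rfl⟩ := eM.surjective x
      exact ⟨u x, ⟨x, rfl⟩, h x⟩

end Congr

/-- The base change of a cokernel of a matrix. -/
theorem exists_coker_equiv {P₁ P : Type u} [CommRing P₁] [CommRing P] [Algebra P₁ P] {m k : ℕ}
    {M : Type u} [AddCommGroup M] [Module P M] (π : (Fin m → P) →ₗ[P] M) (hπ : Surjective π)
    (a₀ : Fin k → Fin m → P₁)
    (hker : LinearMap.ker π = Submodule.span P (Set.range fun j i => algebraMap P₁ P (a₀ j i))) :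
    ∃ e : P ⊗[P₁] ((Fin m → P₁) ⧸ Submodule.span P₁ (Set.range a₀)) ≃ₗ[P] M,
      ∀ v, e (1 ⊗ₜ Submodule.Quotient.mk v) = π fun i => algebraMap P₁ P (v i) := by
  let K₀ := Submodule.span P₁ (Set.range a₀)
  letI : Module P₁ M := Module.compHom M (algebraMap P₁ P)
  haveI : IsScalarTower P₁ P M := IsScalarTower.of_compHom _ _ M
  let ι : (Fin m → P₁) →ₗ[P₁] (Fin m → P) := (Algebra.linearMap P₁ P).compLeft (Fin m)
  have hι : ∀ v, ι v = fun i => algebraMap P₁ P (v i) := fun v => rfl
  let f : ((Fin m → P₁) ⧸ K₀) →ₗ[P₁] M := K₀.liftQ (π.restrictScalars P₁ ∘ₗ ι) (Submodule.span_le.2 (by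
    rintro _ ⟨j, rfl⟩
    show π (ι (a₀ j)) = 0
    rw [← LinearMap.mem_ker, hker]
    exact Submodule.subset_span ⟨j, rfl⟩))
  let θ := f.liftBaseChange P
  have hθ : ∀ v, θ (1 ⊗ₜ Submodule.Quotient.mk v) = π fun i => algebraMap P₁ P (v i) := fun v => by
    rw [LinearMap.liftBaseChange_tmul, one_smul]; rfl
  let G : (Fin m → P) →ₗ[P] P ⊗[P₁] ((Fin m → P₁) ⧸ K₀) :=
    Fintype.linearCombination P fun i => (1 : P) ⊗ₜ[P₁] Submodule.Quotient.mk (Pi.single i (1 : P₁))
  have hG : ∀ v : Fin m → P₁, G (fun i => algebraMap P₁ P (v i)) = 1 ⊗ₜ Submodule.Quotient.mk v := fun v => by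
    conv_rhs => rw [pi_eq_sum_univ' v, ← Submodule.mkQ_apply, map_sum, TensorProduct.tmul_sum]
    rw [show G _ = _ from Fintype.linearCombination_apply P _ _]
    refine Finset.sum_congr rfl fun i _ => ?_
    rw [algebraMap_smul, ← TensorProduct.tmul_smul, map_smul]
    rfl
  have hGker : LinearMap.ker π ≤ LinearMap.ker G := by
    rw [hker, Submodule.span_le]
    rintro _ ⟨j, rfl⟩
    rw [SetLike.mem_coe, LinearMap.mem_ker, hG,
      (Submodule.Quotient.mk_eq_zero K₀).2 (Submodule.subset_span ⟨j, rfl⟩), TensorProduct.tmul_zero]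
  let inv : M →ₗ[P] P ⊗[P₁] ((Fin m → P₁) ⧸ K₀) :=
    (LinearMap.ker π).liftQ G hGker ∘ₗ (LinearMap.quotKerEquivOfSurjective π hπ).symm.toLinearMap
  have hinv : ∀ x, inv (π x) = G x := fun x => by
    have : (LinearMap.quotKerEquivOfSurjective π hπ).symm (π x) = Submodule.Quotient.mk x := by
      rw [LinearEquiv.symm_apply_eq]
      rfl
    simp [inv, this]
  refine ⟨LinearEquiv.ofLinearMap θ inv ?_ ?_, hθ⟩
  · refine LinearMap.ext fun y => ?_
    obtain ⟨y, rfl⟩ := hπ y
    rw [LinearMap.comp_apply, hinv, LinearMap.id_apply, ← LinearMap.comp_apply]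
    refine LinearMap.congr_fun (LinearMap.pi_ext' fun i => LinearMap.ext_ring ?_) y
    simp only [LinearMap.comp_apply, LinearMap.coe_single, G]
    rw [Fintype.linearCombination_apply_single, one_smul, hθ]
    congr 1
    funext i'
    rcases eq_or_ne i' i with rfl | h <;> simp [*]
  · refine TensorProduct.AlgebraTensorModule.ext fun r v => ?_
    obtain ⟨v, rfl⟩ := Submodule.Quotient.mk_surjective _ v
    rw [LinearMap.comp_apply, LinearMap.id_apply]
    conv_lhs => rw [show r ⊗ₜ[P₁] (Submodule.Quotient.mk v : (Fin m → P₁) ⧸ K₀) =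
      r • ((1 : P) ⊗ₜ[P₁] (Submodule.Quotient.mk v : (Fin m → P₁) ⧸ K₀)) by
        rw [TensorProduct.smul_tmul', smul_eq_mul, mul_one]]
    rw [map_smul, map_smul, hθ, hinv, hG, TensorProduct.smul_tmul', smul_eq_mul, mul_one]

/-- The criterion at a Noetherian stage. -/
theorem injFlat_of_stage {C₀ R₂ C₂ R S : Type u} [CommRing C₀] [CommRing R₂] [CommRing C₂] [CommRing R] [CommRing S]
    [Algebra R₂ C₂] [Algebra C₀ C₂] [SMulCommClass C₀ R₂ C₂] [Algebra R S] [Algebra R₂ R] [Algebra R₂ S] [Algebra C₂ S]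
    [Algebra C₀ S] [IsScalarTower R₂ R S] [IsScalarTower R₂ C₂ S] [IsScalarTower C₀ C₂ S]
    [Algebra.IsPushout R₂ R C₂ S] [IsNoetherianRing C₂]
    {M₁ N₁ : Type u} [AddCommGroup M₁] [Module C₀ M₁] [Module.Finite C₀ M₁] [AddCommGroup N₁] [Module C₀ N₁]
    (u₁ : M₁ →ₗ[C₀] N₁) (q : Ideal S) [q.IsPrime]
    [Module.Flat R₂ (LocalizedModule (q.comap (algebraMap C₂ S)).primeCompl (C₂ ⊗[C₀] N₁))]
    (hu : FibInj R (u₁.baseChange S) q) : InjFlat R (u₁.baseChange S) q := by
  let eM := TensorProduct.AlgebraTensorModule.cancelBaseChange C₀ C₂ S S M₁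
  let eN := TensorProduct.AlgebraTensorModule.cancelBaseChange C₀ C₂ S S N₁
  have hcomm : ∀ x, eN ((u₁.baseChange C₂).baseChange S x) = u₁.baseChange S (eM x) := by
    intro x
    induction x with
    | zero => simp
    | add x y hx hy => simp only [map_add, hx, hy]
    | tmul r z =>
      induction z with
      | zero => simp
      | add x y hx hy => simp only [TensorProduct.tmul_add, map_add, hx, hy]
      | tmul c v => simp [eM, eN]
  have hu₂ : FibInj R ((u₁.baseChange C₂).baseChange S) q := FibInj.congr eM.symm eN.symm (fun x => by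
      rw [LinearEquiv.symm_apply_eq, hcomm, LinearEquiv.apply_symm_apply]) hu
  exact InjFlat.congr (R := R) eM eN hcomm
    (injFlat_baseChange (R₁ := R₂) (S₁ := C₂) (u₁.baseChange C₂) q hu₂)

attribute [local instance] Algebra.TensorProduct.rightAlgebra

set_option maxHeartbeats 1600000 in
set_option backward.isDefEq.respectTransparency true in
/-- The criterion for modules coming from a Noetherian model of the base. -/
theorem injFlat_of_model {R₁ C₀ R S : Type u} [CommRing R₁] [IsNoetherianRing R₁] [CommRing C₀] [Algebra R₁ C₀]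
    [Algebra.FiniteType R₁ C₀] [CommRing R] [CommRing S] [Algebra R S] [Algebra R₁ R] [Algebra R₁ S] [Algebra C₀ S]
    [IsScalarTower R₁ R S] [IsScalarTower R₁ C₀ S] [Algebra.IsPushout R₁ R C₀ S]
    {M₁ N₁ : Type u} [AddCommGroup M₁] [Module C₀ M₁] [Module R₁ M₁] [IsScalarTower R₁ C₀ M₁] [Module.Finite C₀ M₁]
    [AddCommGroup N₁] [Module C₀ N₁] [Module R₁ N₁] [IsScalarTower R₁ C₀ N₁] [Module.Finite C₀ N₁]
    (u₁ : M₁ →ₗ[C₀] N₁) (q : Ideal S) [q.IsPrime] [hN : Module.Flat R (FlatLocus.Loc C₀ N₁ q)]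
    (hu : FibInj R (u₁.baseChange S) q) : InjFlat R (u₁.baseChange S) q := by
  obtain ⟨s, hs⟩ := FlatLocus.exists_flat_stage (R := R₁) (C₀ := C₀) (M₀ := N₁) (B := R) q
  let R₂ : Subalgebra R₁ R := Algebra.adjoin R₁ (s : Set R)
  have hfg : Algebra.FiniteType R₁ R₂ := Algebra.FiniteType.adjoin_of_finite s.finite_toSet
  haveI : IsNoetherianRing R₂ := Algebra.FiniteType.isNoetherianRing R₁ R₂
  let C₂ := R₂ ⊗[R₁] C₀
  haveI : IsNoetherianRing C₂ := Algebra.FiniteType.isNoetherianRing R₂ C₂
  letI : Algebra C₂ S := (FlatLocus.stageMap C₀ S R₂).toRingHom.toAlgebra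
  haveI : IsScalarTower R₂ C₂ S := ⟨fun x y z => by
    change FlatLocus.stageMap C₀ S R₂ (x • y) * z = (x : R) • (FlatLocus.stageMap C₀ S R₂ y * z)
    rw [show x • y = algebraMap R₂ C₂ x * y from Algebra.smul_def x y, map_mul, Algebra.smul_def, mul_assoc]
    simp [FlatLocus.stageMap, C₂]⟩
  haveI : IsScalarTower C₀ C₂ S := IsScalarTower.of_algebraMap_eq fun x => by
    simp [RingHom.algebraMap_toAlgebra, FlatLocus.stageMap, Algebra.TensorProduct.right_algebraMap_apply, C₂]
  haveI : IsScalarTower R₁ C₂ S := IsScalarTower.of_algebraMap_eq fun x => by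
    exact ((FlatLocus.stageMap C₀ S R₂).commutes x).symm
  haveI : Algebra.IsPushout R₂ R C₂ S := (Algebra.IsPushout.comp_iff R₁ R₂ C₀ C₂).1 inferInstance
  haveI : Module.Flat R₂ (LocalizedModule (q.comap (algebraMap C₂ S)).primeCompl (C₂ ⊗[C₀] N₁)) :=
    hs R₂ Algebra.subset_adjoin hfg (q.comap (algebraMap C₂ S)) rfl
  exact injFlat_of_stage (R₂ := R₂) (C₂ := C₂) u₁ q hu

attribute [local instance] MvPolynomial.algebraMvPolynomial

set_option maxHeartbeats 1600000 in
/-- The criterion over a polynomial ring. -/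
theorem injFlat_mvPolynomial {R : Type u} [CommRing R] (d : ℕ) {M N : Type u}
    [AddCommGroup M] [Module (MvPolynomial (Fin d) R) M] [Module.FinitePresentation (MvPolynomial (Fin d) R) M]
    [AddCommGroup N] [Module (MvPolynomial (Fin d) R) N] [Module R N]
    [IsScalarTower R (MvPolynomial (Fin d) R) N] [Module.FinitePresentation (MvPolynomial (Fin d) R) N]
    (u : M →ₗ[MvPolynomial (Fin d) R] N) (q : Ideal (MvPolynomial (Fin d) R)) [q.IsPrime]
    [Module.Flat R (LocalizedModule q.primeCompl N)] (hu : FibInj R u q) : InjFlat R u q := by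
  classical
  let P := MvPolynomial (Fin d) R
  obtain ⟨m, k, π, g, hπ, hex⟩ := Module.FinitePresentation.exists_fin' P M
  obtain ⟨n, l, ρ, h, hρ, hex'⟩ := Module.FinitePresentation.exists_fin' P N
  let a : Fin k → Fin m → P := fun j => g (Pi.single j 1)
  let b : Fin l → Fin n → P := fun j => h (Pi.single j 1)
  have hspan : ∀ {m k : ℕ} (g : (Fin k → P) →ₗ[P] (Fin m → P)),
      LinearMap.range g = Submodule.span P (Set.range fun j => g (Pi.single j 1)) := fun g => by
    rw [show LinearMap.range g = (⊤ : Submodule P _).map g from (Submodule.map_top g).symm,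
      ← (Pi.basisFun P _).span_eq, Submodule.map_span, ← Set.range_comp]
    congr 1
    ext j
    simp
  choose c hc using fun i => hρ (u (π (Pi.single i 1)))
  have hrel : ∀ j, (∑ i, a j i • c i) ∈ Submodule.span P (Set.range b) := by
    intro j
    rw [← hspan h, ← hex'.linearMap_ker_eq, LinearMap.mem_ker, map_sum]
    simp only [map_smul, hc]
    rw [← map_zero u, ← hex.apply_apply_eq_zero (Pi.single j 1)]
    conv_rhs => rw [pi_eq_sum_univ' (g (Pi.single j 1)), map_sum, map_sum]
    exact Finset.sum_congr rfl fun i _ => by rw [map_smul, map_smul]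
  choose D hD using fun j => (Submodule.mem_span_range_iff_exists_fun P).1 (hrel j)
  let cs : Finset R :=
    (Finset.univ.biUnion fun j => Finset.univ.biUnion fun i => (a j i).coeffs) ∪
    (Finset.univ.biUnion fun j => Finset.univ.biUnion fun i => (b j i).coeffs) ∪
    (Finset.univ.biUnion fun j => Finset.univ.biUnion fun i => (c j i).coeffs) ∪
    (Finset.univ.biUnion fun j => Finset.univ.biUnion fun i => (D j i).coeffs)
  let R₁ : Subalgebra ℤ R := Algebra.adjoin ℤ (cs : Set R)
  haveI : Algebra.FiniteType ℤ R₁ := Algebra.FiniteType.adjoin_of_finite cs.finite_toSet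
  haveI : IsNoetherianRing R₁ := Algebra.FiniteType.isNoetherianRing ℤ R₁
  have hlift : ∀ f : P, f.coeffs ⊆ cs →
      f ∈ Set.range (MvPolynomial.map (σ := Fin d) (algebraMap R₁ R)) := by
    intro f hf
    rw [MvPolynomial.mem_range_map_iff_coeffs_subset]
    exact fun x hx => ⟨⟨x, Algebra.subset_adjoin (hf hx)⟩, rfl⟩
  choose a₀ ha₀ using fun j i => hlift (a j i) fun x hx =>
    Finset.mem_union_left _ <| Finset.mem_union_left _ <| Finset.mem_union_left _ <|
      Finset.mem_biUnion.2 ⟨j, Finset.mem_univ _, Finset.mem_biUnion.2 ⟨i, Finset.mem_univ _, hx⟩⟩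
  choose b₀ hb₀ using fun j i => hlift (b j i) fun x hx =>
    Finset.mem_union_left _ <| Finset.mem_union_left _ <| Finset.mem_union_right _ <|
      Finset.mem_biUnion.2 ⟨j, Finset.mem_univ _, Finset.mem_biUnion.2 ⟨i, Finset.mem_univ _, hx⟩⟩
  choose c₀ hc₀ using fun j i => hlift (c j i) fun x hx =>
    Finset.mem_union_left _ <| Finset.mem_union_right _ <|
      Finset.mem_biUnion.2 ⟨j, Finset.mem_univ _, Finset.mem_biUnion.2 ⟨i, Finset.mem_univ _, hx⟩⟩
  choose D₀ hD₀ using fun j i => hlift (D j i) fun x hx =>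
    Finset.mem_union_right _ <|
      Finset.mem_biUnion.2 ⟨j, Finset.mem_univ _, Finset.mem_biUnion.2 ⟨i, Finset.mem_univ _, hx⟩⟩
  let P₁ := MvPolynomial (Fin d) R₁
  have hP₁ : Injective (algebraMap P₁ P) := MvPolynomial.map_injective _ Subtype.val_injective
  let M₁ := (Fin m → P₁) ⧸ Submodule.span P₁ (Set.range a₀)
  let N₁ := (Fin n → P₁) ⧸ Submodule.span P₁ (Set.range b₀)
  have hrel₀ : ∀ j, (∑ i, a₀ j i • c₀ i) = ∑ i, D₀ j i • b₀ i := by
    intro j
    funext i'
    apply hP₁
    have := congrFun (hD j) i'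
    simp only [Finset.sum_apply, Pi.smul_apply, smul_eq_mul, map_sum, map_mul] at this ⊢
    simp only [show ∀ x, algebraMap P₁ P x = MvPolynomial.map (algebraMap R₁ R) x from fun _ => rfl,
      ha₀, hb₀, hc₀, hD₀]
    exact this.symm
  let u₁ : M₁ →ₗ[P₁] N₁ := (Submodule.span P₁ (Set.range a₀)).liftQ
    (Fintype.linearCombination P₁ fun i => (Submodule.Quotient.mk (c₀ i) : N₁)) (Submodule.span_le.2 (by
      rintro _ ⟨j, rfl⟩
      rw [SetLike.mem_coe, LinearMap.mem_ker, Fintype.linearCombination_apply]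
      rw [show ∑ i, a₀ j i • (Submodule.Quotient.mk (c₀ i) : N₁) =
        (Submodule.span P₁ (Set.range b₀)).mkQ (∑ i, a₀ j i • c₀ i) by
          simp only [map_sum, map_smul, Submodule.mkQ_apply]]
      rw [hrel₀, Submodule.mkQ_apply, Submodule.Quotient.mk_eq_zero]
      exact Submodule.sum_mem _ fun i _ => Submodule.smul_mem _ _ (Submodule.subset_span ⟨i, rfl⟩)))
  have hkπ : LinearMap.ker π = Submodule.span P (Set.range fun j i => algebraMap P₁ P (a₀ j i)) := by
    rw [hex.linearMap_ker_eq, hspan]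
    congr 2
    funext j i
    exact (ha₀ j i).symm
  have hkρ : LinearMap.ker ρ = Submodule.span P (Set.range fun j i => algebraMap P₁ P (b₀ j i)) := by
    rw [hex'.linearMap_ker_eq, hspan]
    congr 2
    funext j i
    exact (hb₀ j i).symm
  obtain ⟨eM, heM⟩ := exists_coker_equiv π hπ a₀ hkπ
  obtain ⟨eN, heN⟩ := exists_coker_equiv ρ hρ b₀ hkρ
  have hcomm : ∀ x, eN (u₁.baseChange P x) = u (eM x) := by
    have : eN.toLinearMap ∘ₗ u₁.baseChange P = u ∘ₗ eM.toLinearMap := by
      letI : Module P₁ N := Module.compHom N (algebraMap P₁ P)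
      haveI : IsScalarTower P₁ P N := IsScalarTower.of_compHom _ _ N
      refine TensorProduct.AlgebraTensorModule.curry_injective (LinearMap.ext_ring ?_)
      refine Submodule.linearMap_qext _ (LinearMap.pi_ext' fun i => LinearMap.ext_ring ?_)
      simp only [TensorProduct.AlgebraTensorModule.curry_apply, LinearMap.restrictScalars_apply,
        TensorProduct.curry_apply, LinearMap.comp_apply, LinearMap.coe_single, Submodule.mkQ_apply,
        LinearMap.baseChange_tmul, LinearEquiv.coe_coe]
      rw [show u₁ (Submodule.Quotient.mk (Pi.single i 1)) = Submodule.Quotient.mk (c₀ i) from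
        (Fintype.linearCombination_apply_single P₁ _ i 1).trans (one_smul _ _)]
      rw [heN, heM]
      rw [show (fun i' => algebraMap P₁ P (c₀ i i')) = c i from funext fun i' => hc₀ i i', hc,
        show (fun i' => algebraMap P₁ P ((Pi.single i 1 : Fin m → P₁) i')) = (Pi.single i 1 : Fin m → P) from
          funext fun i' => by rcases eq_or_ne i' i with rfl | h <;> simp [*]]
    exact fun x => LinearMap.congr_fun this x
  exact InjFlat.congr (R := R) eM eN hcomm
    (injFlat_of_model (R₁ := R₁) (C₀ := P₁) u₁ q (hN := FlatLocus.flat_localized_congr eN.symm q.primeCompl)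
      (FibInj.congr eM.symm eN.symm (fun x => by
        rw [LinearEquiv.symm_apply_eq, hcomm, LinearEquiv.apply_symm_apply]) hu))

/-- **EGA IV 11.3.7**: a map into a module flat over the base which is injective on the fibre is
injective with flat cokernel. -/
theorem injFlat {R S M N : Type u} [CommRing R] [CommRing S] [Algebra R S] [Algebra.FinitePresentation R S]
    [AddCommGroup M] [Module S M] [Module.FinitePresentation S M]
    [AddCommGroup N] [Module S N] [Module R N] [IsScalarTower R S N] [Module.FinitePresentation S N]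
    (u : M →ₗ[S] N) (q : Ideal S) [q.IsPrime] [Module.Flat R (LocalizedModule q.primeCompl N)]
    (hu : FibInj R u q) : InjFlat R u q := by
  obtain ⟨d, φ, hφ, hker⟩ := Algebra.FinitePresentation.out (R := R) (A := S)
  let P := MvPolynomial (Fin d) R
  letI : Algebra P S := φ.toRingHom.toAlgebra
  haveI : IsScalarTower R P S := IsScalarTower.of_algebraMap_eq fun x => (φ.commutes x).symm
  letI : Module P M := Module.compHom M φ.toRingHom
  haveI : IsScalarTower P S M := IsScalarTower.of_compHom _ _ M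
  letI : Module P N := Module.compHom N φ.toRingHom
  haveI : IsScalarTower P S N := IsScalarTower.of_compHom _ _ N
  haveI : IsScalarTower R P N := IsScalarTower.of_algebraMap_smul fun x z => by
    rw [← algebraMap_smul S (algebraMap R P x) z, ← IsScalarTower.algebraMap_apply, algebraMap_smul]
  haveI : Module.FinitePresentation P S :=
    Module.finitePresentation_of_surjective (Algebra.linearMap P S) hφ (by exact hker)
  haveI : Module.FinitePresentation P M := Module.FinitePresentation.trans _ M S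
  haveI : Module.FinitePresentation P N := Module.FinitePresentation.trans _ N S
  let q' := q.comap (algebraMap P S)
  haveI : Module.Flat R (LocalizedModule q'.primeCompl N) :=
    (FlatLocus.flat_localized_iff_of_surjective hφ q).1 ‹_›
  have hp : q'.comap (algebraMap R P) = q.comap (algebraMap R S) := by
    rw [Ideal.comap_comap, ← IsScalarTower.algebraMap_eq]
  have hmem : ∀ {V : Type u} [AddCommGroup V] [Module S V] [Module P V] [IsScalarTower P S V] (I : Ideal R) (v : V),
      v ∈ I.map (algebraMap R P) • (⊤ : Submodule P V) ↔ v ∈ I.map (algebraMap R S) • (⊤ : Submodule S V) := by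
    intro V _ _ _ _ I v
    rw [IsScalarTower.algebraMap_eq R P S, ← Ideal.map_map, mem_map_smul_iff (R := P) (S := S) (I.map (algebraMap R P)) v]
  have hu' : FibInj R (u.restrictScalars P) q' := by
    intro x hx
    rw [hp, hmem] at hx
    obtain ⟨s, hs, hsx⟩ := hu x hx
    obtain ⟨t, rfl⟩ := hφ s
    refine ⟨t, hs, ?_⟩
    rw [hp, hmem]
    exact hsx
  obtain ⟨hinj, hflat⟩ := injFlat_mvPolynomial d (u.restrictScalars P) q' hu'
  refine ⟨fun x hx => ?_, ?_⟩
  · obtain ⟨t, ht, htx⟩ := hinj x hx
    exact ⟨φ t, ht, htx⟩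
  · rw [FlatLocus.flat_localized_iff_of_surjective (B := R) (P := P) hφ q]
    exact FlatLocus.flat_localized_congr (R := R)
      ((Submodule.quotEquivOfEq _ _ (LinearMap.range_restrictScalars u)).trans
        (Submodule.Quotient.restrictScalarsEquiv P (LinearMap.range u))) q'.primeCompl

end Groth.Agent.FlatInjCoker
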