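import Mathlib
import Groth.Agent.FlatInjCoker.Basic
import Groth.Agent.FlatFibrePD.Basic
import Groth.Agent.FlatLocus.Model
import Groth.Agent.FlatSlice.Step

/-!
# Kernels of maps onto flat modules of finite presentation; openness of the locus of injectivity with flat cokernel
-/

set_option autoImplicit false
set_option synthInstance.maxHeartbeats 80000
set_option linter.all false

universe u

open TensorProduct Function

namespace Groth.Agent.FlatInjCoker

/-- Descent of finite presentation along a surjection of rings. -/
theorem finitePresentation_of_surjective_algebraMap {P B K : Type u} [CommRing P] [CommRing B] [Algebra P B]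
    [AddCommGroup K] [Module B K] [Module P K] [IsScalarTower P B K] (h : Surjective (algebraMap P B))
    [Module.FinitePresentation P K] : Module.FinitePresentation B K := by
  let θ : B ⊗[P] K →ₗ[B] K := (LinearMap.id : K →ₗ[P] K).liftBaseChange B
  refine Module.FinitePresentation.of_equiv (LinearEquiv.ofBijective θ ⟨?_, fun y => ⟨1 ⊗ₜ y, by simp [θ]⟩⟩)
  rw [injective_iff_map_eq_zero]
  intro z hz
  obtain ⟨y, rfl⟩ := TensorProduct.mk_surjective P K B h z
  rw [TensorProduct.mk_apply, LinearMap.liftBaseChange_tmul, one_smul, LinearMap.id_apply] at hz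
  rw [TensorProduct.mk_apply, hz, TensorProduct.tmul_zero]

theorem finitePresentation_ker_of_flat_algebra (A : Type u) {B : Type u} [CommRing A] [CommRing B] [Algebra A B]
    [Algebra.FinitePresentation A B] {N C : Type u} [AddCommGroup N] [Module B N] [Module.FinitePresentation B N]
    [AddCommGroup C] [Module B C] [Module A C] [IsScalarTower A B C] [Module.FinitePresentation B C] [Module.Flat A C]
    [Module.Flat A B] (p : N →ₗ[B] C) (hp : Surjective p) :
    Module.FinitePresentation B (LinearMap.ker p) := by
  obtain ⟨r, π, hπ, hK, -⟩ := FlatFibrePD.exists_step A B (M := C)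
  haveI := hK
  obtain ⟨φ, hφ⟩ := Module.projective_lifting_property p π hp
  have hφ' : ∀ v, p (φ v) = π v := fun v => LinearMap.congr_fun hφ v
  let l : (LinearMap.ker p × (Fin r → B)) →ₗ[B] N := (LinearMap.ker p).subtype.coprod φ
  have hl : Surjective l := by
    intro n
    obtain ⟨v, hv⟩ := hπ (p n)
    refine ⟨(⟨n - φ v, ?_⟩, v), by simp [l]⟩
    rw [LinearMap.mem_ker, map_sub, hφ', hv, sub_self]
  let ι : LinearMap.ker π →ₗ[B] (LinearMap.ker p × (Fin r → B)) :=
    (LinearMap.codRestrict (LinearMap.ker p) (-(φ ∘ₗ (LinearMap.ker π).subtype)) (fun v => by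
      rw [LinearMap.mem_ker, LinearMap.neg_apply, map_neg, LinearMap.comp_apply, hφ', Submodule.subtype_apply,
        LinearMap.mem_ker.1 v.2, neg_zero])).prod (LinearMap.ker π).subtype
  have hι : Injective ι := fun a b hab => Subtype.ext (congrArg Prod.snd hab)
  have hker : LinearMap.range ι = LinearMap.ker l := by
    ext ⟨k, v⟩
    simp only [LinearMap.mem_range, LinearMap.mem_ker]
    constructor
    · rintro ⟨w, hw⟩
      rw [← hw]
      simp [l, ι]
    · intro h
      have h' : (k : N) + φ v = 0 := by simpa [l] using h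
      have hv : π v = 0 := by
        have := congrArg p h'
        rwa [map_add, LinearMap.mem_ker.1 k.2, zero_add, hφ', map_zero] at this
      refine ⟨⟨v, hv⟩, Prod.ext (Subtype.ext ?_) rfl⟩
      show -(φ v) = (k : N)
      exact (eq_neg_of_add_eq_zero_left h').symm
  haveI : Module.FinitePresentation B (LinearMap.ker l) :=
    Module.FinitePresentation.of_equiv ((LinearEquiv.ofInjective ι hι).trans (LinearEquiv.ofEq _ _ hker))
  haveI : Module.FinitePresentation B (LinearMap.ker p × (Fin r → B)) :=
    Module.finitePresentation_of_ker l hl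
  refine Module.finitePresentation_of_surjective (LinearMap.fst B (LinearMap.ker p) (Fin r → B)) LinearMap.fst_surjective ?_
  rw [LinearMap.ker_fst]
  exact Submodule.fg_range _

/-- The kernel of a surjection onto a flat module of finite presentation is of finite presentation. -/
theorem finitePresentation_ker_of_flat (A : Type u) {B : Type u} [CommRing A] [CommRing B] [Algebra A B]
    [Algebra.FinitePresentation A B] {N C : Type u} [AddCommGroup N] [Module B N] [Module.FinitePresentation B N]
    [AddCommGroup C] [Module B C] [Module A C] [IsScalarTower A B C] [Module.FinitePresentation B C] [Module.Flat A C]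
    (p : N →ₗ[B] C) (hp : Surjective p) :
    Module.FinitePresentation B (LinearMap.ker p) := by
  obtain ⟨d, φ, hφ, hker⟩ := Algebra.FinitePresentation.out (R := A) (A := B)
  let P := MvPolynomial (Fin d) A
  letI : Algebra P B := φ.toRingHom.toAlgebra
  haveI : IsScalarTower A P B := IsScalarTower.of_algebraMap_eq fun x => (φ.commutes x).symm
  letI : Module P N := Module.compHom N φ.toRingHom
  haveI : IsScalarTower P B N := IsScalarTower.of_compHom _ _ N
  letI : Module P C := Module.compHom C φ.toRingHom
  haveI : IsScalarTower P B C := IsScalarTower.of_compHom _ _ C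
  haveI : IsScalarTower A P C := IsScalarTower.of_algebraMap_smul fun x z => by
    rw [← algebraMap_smul B (algebraMap A P x) z, ← IsScalarTower.algebraMap_apply, algebraMap_smul]
  haveI : Module.FinitePresentation P B :=
    Module.finitePresentation_of_surjective (Algebra.linearMap P B) hφ (by exact hker)
  haveI : Module.FinitePresentation P N := Module.FinitePresentation.trans _ N B
  haveI : Module.FinitePresentation P C := Module.FinitePresentation.trans _ C B
  haveI := finitePresentation_ker_of_flat_algebra A (p.restrictScalars P) hp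
  exact @finitePresentation_of_surjective_algebraMap P B (LinearMap.ker p) _ _ _ _ _ _ _ hφ ‹_›

section Open

variable {R S M W : Type u} [CommRing R] [CommRing S] [Algebra R S] [Algebra.FinitePresentation R S]
  [AddCommGroup M] [Module S M] [Module.FinitePresentation S M]
  [AddCommGroup W] [Module S W] [Module R W] [IsScalarTower R S W] [Module.FinitePresentation S W]

theorem finitePresentation_coker (u : M →ₗ[S] W) : Module.FinitePresentation S (W ⧸ LinearMap.range u) :=
  Module.finitePresentation_of_surjective _ (Submodule.mkQ_surjective _)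
    (by rw [Submodule.ker_mkQ]; exact (Module.Finite.iff_fg.1 inferInstance))

/-- The points where a map is injective with cokernel flat over the base form an open set. -/
theorem exists_injFlat_away (u : M →ₗ[S] W) (q : Ideal S) [q.IsPrime] (h : InjFlat R u q) :
    ∃ g ∉ q, ∀ (q' : Ideal S) [q'.IsPrime], g ∉ q' → InjFlat R u q' := by
  classical
  obtain ⟨hinj, hflat⟩ := h
  let C := W ⧸ LinearMap.range u
  haveI := finitePresentation_coker u
  obtain ⟨_, ⟨g, rfl⟩, hgq, hsub⟩ := PrimeSpectrum.isTopologicalBasis_basic_opens.exists_subset_of_mem_open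
    (show (⟨q, ‹_›⟩ : PrimeSpectrum S) ∈ {q : PrimeSpectrum S | Module.Flat R (LocalizedModule q.asIdeal.primeCompl C)} from hflat)
    FlatLocus.isOpen_flatLocus
  replace hgq : g ∉ q := hgq
  have hflat' : ∀ (q' : Ideal S) [q'.IsPrime], g ∉ q' → Module.Flat R (LocalizedModule q'.primeCompl C) :=
    fun q' h' hg => hsub (show (⟨q', h'⟩ : PrimeSpectrum S) ∈ PrimeSpectrum.basicOpen g from hg)
  let Sg := Localization.Away g
  haveI : Algebra.FinitePresentation R Sg :=
    haveI : Algebra.FinitePresentation S Sg := IsLocalization.Away.finitePresentation g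
    Algebra.FinitePresentation.trans R S _
  let gM := LocalizedModule.mkLinearMap (Submonoid.powers g) M
  let gW := LocalizedModule.mkLinearMap (Submonoid.powers g) W
  let Mg := LocalizedModule (Submonoid.powers g) M
  let Wg := LocalizedModule (Submonoid.powers g) W
  let Cg := LocalizedModule (Submonoid.powers g) C
  let ug : Mg →ₗ[Sg] Wg := LocalizedModule.map (Submonoid.powers g) u
  let pg : Wg →ₗ[Sg] Cg := LocalizedModule.map (Submonoid.powers g) (LinearMap.range u).mkQ
  haveI : Module.Flat R Cg := FlatSlice.flat_away_of_pointwise g hflat'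
  haveI : Module.FinitePresentation Sg Mg := FinitePresentation.of_isBaseChange
    gM (IsLocalizedModule.isBaseChange (Submonoid.powers g) Sg _)
  haveI : Module.FinitePresentation Sg Wg := FinitePresentation.of_isBaseChange
    gW (IsLocalizedModule.isBaseChange (Submonoid.powers g) Sg _)
  haveI : Module.FinitePresentation Sg Cg := FinitePresentation.of_isBaseChange
    (LocalizedModule.mkLinearMap (Submonoid.powers g) C) (IsLocalizedModule.isBaseChange (Submonoid.powers g) Sg _)
  have hp : Surjective pg := LocalizedModule.map_surjective _ _ (Submodule.mkQ_surjective _)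
  have hex : Exact ug pg := LocalizedModule.map_exact _ _ _ (LinearMap.exact_map_mkQ_range u)
  haveI := finitePresentation_ker_of_flat R pg hp
  let ug' : Mg →ₗ[Sg] LinearMap.ker pg := LinearMap.codRestrict _ ug fun x => hex.apply_apply_eq_zero x
  have hug' : Surjective ug' := fun z => by
    obtain ⟨x, hx⟩ := (hex z.1).1 z.2
    exact ⟨x, Subtype.ext hx⟩
  obtain ⟨t, ht⟩ := Module.FinitePresentation.fg_ker ug' hug'
  have hk : ∀ z ∈ t, ∃ s ∉ q, s • z = 0 := by
    intro z hz
    have hz0 : ug z = 0 := congrArg Subtype.val (show ug' z = 0 from LinearMap.mem_ker.1 (ht ▸ Submodule.subset_span hz : z ∈ LinearMap.ker ug'))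
    induction z using LocalizedModule.induction_on with
    | h x c =>
      rw [LocalizedModule.map_mk] at hz0
      obtain ⟨d, hd⟩ := (LocalizedModule.mk_eq.1 (hz0.trans (LocalizedModule.zero_mk 1).symm))
      simp only [Submonoid.smul_def, OneMemClass.coe_one, one_smul, smul_zero] at hd
      rw [← map_smul] at hd
      obtain ⟨s, hs, hsx⟩ := hinj _ hd
      refine ⟨s * d, q.primeCompl.mul_mem hs ?_, ?_⟩
      · obtain ⟨k, hk⟩ := d.2
        exact fun h => hgq (‹q.IsPrime›.mem_of_pow_mem k (by rw [show g ^ k = (d : S) from hk]; exact h))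
      · rw [LocalizedModule.smul'_mk, mul_smul, hsx, LocalizedModule.zero_mk]
  choose! s hs hsz using hk
  refine ⟨g * ∏ z ∈ t, s z, q.primeCompl.mul_mem hgq (q.primeCompl.prod_mem fun z hz => hs z hz),
    fun q' hq' hg' => ?_⟩
  have hgq' : g ∉ q' := fun h => hg' (q'.mul_mem_right _ h)
  refine ⟨fun x hx => ?_, hflat' q' hgq'⟩
  have hkill : ∀ z ∈ LinearMap.ker ug', (∏ z ∈ t, s z) • z = 0 := by
    intro z hz
    rw [← ht] at hz
    induction hz using Submodule.span_induction with
    | mem z hz =>
      rw [← Finset.prod_erase_mul t s hz, mul_smul, hsz z hz, smul_zero]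
    | zero => exact smul_zero _
    | add a b _ _ ha hb => rw [smul_add, ha, hb, add_zero]
    | smul a b _ hb => rw [smul_comm, hb, smul_zero]
  have h1 : LocalizedModule.mk ((∏ z ∈ t, s z) • x) (1 : Submonoid.powers g) = 0 := by
    rw [← LocalizedModule.smul'_mk]
    refine hkill _ (Subtype.ext ?_)
    show ug (LocalizedModule.mk x 1) = 0
    rw [LocalizedModule.map_mk, hx, LocalizedModule.zero_mk]
  obtain ⟨d, hd⟩ := LocalizedModule.mk_eq.1 (h1.trans (LocalizedModule.zero_mk 1).symm)
  simp only [Submonoid.smul_def, OneMemClass.coe_one, one_smul, smul_zero] at hd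
  refine ⟨(d : S) * ∏ z ∈ t, s z, q'.primeCompl.mul_mem ?_ fun h => hg' (q'.mul_mem_left _ h), by
    rw [mul_smul, hd]⟩
  obtain ⟨k, hk⟩ := d.2
  exact fun h => hgq' (hq'.mem_of_pow_mem k (by rw [show g ^ k = (d : S) from hk]; exact h))

end Open

/-- Membership in `I • ⊤` after localization at a prime. -/
theorem mem_map_smul_localized_iff {B L : Type u} [CommRing B] [CommRing L] [Algebra B L] (q : Ideal B) [q.IsPrime]
    [IsLocalization.AtPrime L q] {V₀ V : Type u} [AddCommGroup V₀] [Module B V₀] [AddCommGroup V] [Module B V]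
    [Module L V] [IsScalarTower B L V] (φ : V₀ →ₗ[B] V) [IsLocalizedModule q.primeCompl φ] (I : Ideal B) (x : V₀) :
    φ x ∈ I.map (algebraMap B L) • (⊤ : Submodule L V) ↔
      ∃ s ∉ q, s • x ∈ I • (⊤ : Submodule B V₀) := by
  have h1 : I.map (algebraMap B L) • (⊤ : Submodule L V) =
      (I • (⊤ : Submodule B V₀)).localized' L q.primeCompl φ := by
    rw [Submodule.localized'_smul, Submodule.localized'_top, Ideal.localized'_eq_map]
  rw [h1]
  constructor
  · rintro ⟨y, hy, s, hs⟩
    rw [IsLocalizedModule.mk'_eq_iff] at hs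
    obtain ⟨c, hc⟩ := (IsLocalizedModule.eq_iff_exists q.primeCompl φ).1
      (hs.trans (map_smul φ (s : B) x).symm)
    refine ⟨(c : B) * s, q.primeCompl.mul_mem c.2 s.2, ?_⟩
    rw [mul_smul]
    exact (show (c : B) • ((s : B) • x) = (c : B) • y from hc.symm) ▸ Submodule.smul_mem _ _ hy
  · rintro ⟨s, hs, hsx⟩
    refine ⟨s • x, hsx, ⟨s, hs⟩, ?_⟩
    rw [IsLocalizedModule.mk'_eq_iff, map_smul]
    rfl

section Converse

variable {R S M W : Type u} [CommRing R] [CommRing S] [Algebra R S]
  [AddCommGroup M] [Module S M] [AddCommGroup W] [Module S W] [Module R W] [IsScalarTower R S W]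

/-- An injective map with flat cokernel is injective on the fibre. -/
theorem fibInj_of_injFlat (u : M →ₗ[S] W) (q : Ideal S) [q.IsPrime] (h : InjFlat R u q) : FibInj R u q := by
  obtain ⟨hinj, hflat⟩ := h
  letI : Module R M := Module.compHom M (algebraMap R S)
  haveI : IsScalarTower R S M := IsScalarTower.of_compHom _ _ M
  let gM := LocalizedModule.mkLinearMap q.primeCompl M
  let gW := LocalizedModule.mkLinearMap q.primeCompl W
  let gC := LocalizedModule.mkLinearMap q.primeCompl (W ⧸ LinearMap.range u)
  let uq := IsLocalizedModule.map q.primeCompl gM gW u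
  let πq := IsLocalizedModule.map q.primeCompl gW gC (LinearMap.range u).mkQ
  have huq : Injective uq := by
    rw [injective_iff_map_eq_zero]
    intro y hy
    obtain ⟨⟨x, s⟩, rfl⟩ := IsLocalizedModule.mk'_surjective q.primeCompl gM y
    simp only [Function.uncurry_apply_pair, uq] at hy ⊢
    rw [IsLocalizedModule.map_mk', IsLocalizedModule.mk'_eq_zero] at hy
    obtain ⟨c, hc⟩ := (IsLocalizedModule.eq_zero_iff q.primeCompl gW).1 hy
    rw [Submonoid.smul_def, ← map_smul] at hc
    obtain ⟨s', hs', hx⟩ := hinj _ hc
    rw [IsLocalizedModule.mk'_eq_zero, IsLocalizedModule.eq_zero_iff q.primeCompl gM]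
    exact ⟨⟨s' * c, q.primeCompl.mul_mem hs' c.2⟩, by rw [Submonoid.smul_def, ← hx, mul_smul]⟩
  let p := q.comap (algebraMap R S)
  have hex : Exact (uq.restrictScalars R) (πq.restrictScalars R) :=
    IsLocalizedModule.map_exact _ gM gW gC u _ (LinearMap.exact_map_mkQ_range u)
  have h1 : Injective ((uq.restrictScalars R).lTensor (R ⧸ p)) :=
    LinearMap.lTensor_injective_of_exact_of_flat (πq.restrictScalars R)
      (IsLocalizedModule.map_surjective _ gW gC _ (Submodule.mkQ_surjective _))
      (uq.restrictScalars R) huq hex (R ⧸ p)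
  let Sq := Localization.AtPrime q
  have key : ∀ {V : Type u} [AddCommGroup V] [Module S V] [Module R V] [IsScalarTower R S V] (v : V),
      (∃ s ∉ q, s • v ∈ p.map (algebraMap R S) • (⊤ : Submodule S V)) ↔
      LocalizedModule.mkLinearMap q.primeCompl V v ∈ p • (⊤ : Submodule R (LocalizedModule q.primeCompl V)) := by
    intro V _ _ _ _ v
    rw [← mem_map_smul_iff (S := Sq) p, IsScalarTower.algebraMap_eq R S Sq, ← Ideal.map_map]
    exact (mem_map_smul_localized_iff (L := Sq) q (LocalizedModule.mkLinearMap q.primeCompl V) _ v).symm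
  intro x hx
  have h2 : gW (u x) ∈ p • (⊤ : Submodule R (LocalizedModule q.primeCompl W)) :=
    (key (u x)).1 ⟨1, q.primeCompl.one_mem, by rwa [one_smul]⟩
  refine (key x).2 ?_
  let eM := TensorProduct.quotTensorEquivQuotSMul (LocalizedModule q.primeCompl M) p
  let eW := TensorProduct.quotTensorEquivQuotSMul (LocalizedModule q.primeCompl W) p
  have h3 : (uq.restrictScalars R).lTensor (R ⧸ p) ((1 : R ⧸ p) ⊗ₜ gM x) = 0 := by
    apply eW.injective
    rw [LinearMap.lTensor_tmul, map_zero, show (1 : R ⧸ p) = Ideal.Quotient.mk p 1 from (map_one _).symm,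
      TensorProduct.quotTensorEquivQuotSMul_mk_tmul, one_smul, Submodule.Quotient.mk_eq_zero]
    have huqx : uq (gM x) = gW (u x) := IsLocalizedModule.map_apply _ gM gW u x
    exact (show (uq.restrictScalars R) (gM x) = gW (u x) from huqx) ▸ h2
  have h4 := congrArg eM (h1 (h3.trans (map_zero _).symm))
  rwa [map_zero, show (1 : R ⧸ p) = Ideal.Quotient.mk p 1 from (map_one _).symm,
    TensorProduct.quotTensorEquivQuotSMul_mk_tmul, one_smul, Submodule.Quotient.mk_eq_zero] at h4

end Converse

end Groth.Agent.FlatInjCoker
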