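import Mathlib
import Groth.Agent.FlatInjCoker.Open
import Groth.Agent.FlatOverBC.Open
import Groth.Agent.QCohBase.CohProps
import Groth.Prelude.Def_RefHull

/-!
# Maps of quasi-coherent modules on affine charts: cokernels, stalks, fibres
-/

set_option autoImplicit false
set_option linter.all false

noncomputable section

universe u

open CategoryTheory Limits AlgebraicGeometry Opposite TopologicalSpace
open Groth.Agent.QCohBase Groth.Agent.FlatOver

namespace Groth.Agent.FlatInjCoker

variable {X Y : Scheme.{u}} {F' F : X.Modules}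

/-- Sections of the cokernel over an affine open. -/
theorem exists_coker_sections_equiv (u : F' ⟶ F) (hF' : F'.IsQuasicoherent) (hF : F.IsQuasicoherent)
    {U : X.Opens} (hU : IsAffineOpen U) :
    Nonempty ((Γ(F, U) ⧸ LinearMap.range (appL u U)) ≃ₗ[Γ(X, U)] Γ(cokernel u, U)) := by
  have hC : (cokernel u).IsQuasicoherent := isQuasicoherent_cokernel u hF' hF
  have hs : Function.Surjective (appL (cokernel.π u) U) :=
    app_surjective_of_epi (cokernel.π u) hF hC hU
  refine ⟨Submodule.quotEquivOfEq _ _ ?_ ≪≫ₗ LinearMap.quotKerEquivOfSurjective _ hs⟩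
  refine le_antisymm ?_ fun z hz => ?_
  · rintro _ ⟨y, rfl⟩
    show (cokernel.π u).app U (u.app U y) = 0
    rw [← ConcreteCategory.comp_apply, ← Scheme.Modules.Hom.comp_app, cokernel.condition]
    rfl
  · let T : ShortComplex X.Modules :=
      ShortComplex.mk (kernel.ι (cokernel.π u)) (cokernel.π u) (kernel.condition _)
    haveI : Mono T.f := inferInstanceAs (Mono (kernel.ι (cokernel.π u)))
    obtain ⟨w, hw⟩ := sections_exact_left (T := T)
      (ShortComplex.exact_of_f_is_kernel _ (kernelIsKernel _)) z hz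
    obtain ⟨y, hy⟩ := app_surjective_of_epi (Abelian.factorThruImage u) hF'
      (isQuasicoherent_kernel (cokernel.π u) hF hC) hU w
    refine ⟨y, ?_⟩
    show u.app U y = z
    rw [← hw, ← hy, ← ConcreteCategory.comp_apply, ← Scheme.Modules.Hom.comp_app]
    exact congrArg (fun g => (Scheme.Modules.Hom.app g U) y) (Abelian.image.fac u).symm

/-- The map on stalks commutes with germs. -/
theorem stalk_map_germ (u : F' ⟶ F) {U : X.Opens} (x : X) (hx : x ∈ U) (s : Γ(F', U)) :
    (TopCat.Presheaf.stalkFunctor Ab x).map (Scheme.Modules.Hom.mapPresheaf u) (F'.presheaf.germ U x hx s) =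
      F.presheaf.germ U x hx (appL u U s) :=
  TopCat.Presheaf.stalkFunctor_map_germ_apply U x hx (Scheme.Modules.Hom.mapPresheaf u) s

variable [F'.IsQuasicoherent] [F.IsQuasicoherent]

/-- Injectivity on the stalk, on sections. -/
theorem injective_stalk_iff (u : F' ⟶ F) {U : X.Opens} (hU : IsAffineOpen U) (x : X) (hx : x ∈ U) :
    Function.Injective ((TopCat.Presheaf.stalkFunctor Ab x).map (Scheme.Modules.Hom.mapPresheaf u)) ↔
      ∀ s : Γ(F', U), appL u U s = 0 → ∃ g ∉ (hU.primeIdealOf ⟨x, hx⟩).asIdeal, g • s = 0 := by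
  letI := germModule F' x hx
  letI := germModule F x hx
  haveI := isLocalizedModule_germₗ F' hU x hx
  haveI := isLocalizedModule_germₗ F hU x hx
  let q := (hU.primeIdealOf ⟨x, hx⟩).asIdeal
  constructor
  · intro hinj s hs
    have h0 : germₗ F' x hx s = 0 := hinj <| by
      show _ = (TopCat.Presheaf.stalkFunctor Ab x).map (Scheme.Modules.Hom.mapPresheaf u) 0
      rw [map_zero]
      exact (stalk_map_germ u x hx s).trans (by rw [hs]; exact map_zero _)
    obtain ⟨g, hg⟩ := (IsLocalizedModule.eq_zero_iff q.primeCompl (germₗ F' x hx)).1 h0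
    exact ⟨g, g.2, hg⟩
  · intro h
    rw [injective_iff_map_eq_zero]
    intro z₀ hz
    let z : F'.presheaf.stalk x := z₀
    show z = 0
    replace hz : RefHull.stalkMapₗ u x z = 0 := hz
    obtain ⟨g, s, hg, hs⟩ := Groth.Agent.AssPts.exists_germ_smul_eq F' hU x hx z
    have h1 : germₗ F x hx (appL u U s) = 0 := by
      refine (stalk_map_germ u x hx s).symm.trans ?_
      rw [show F'.presheaf.germ U x hx s = X.presheaf.germ U x hx g • z from hs.symm]
      show RefHull.stalkMapₗ u x (X.presheaf.germ U x hx g • z) = 0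
      rw [map_smul, hz, smul_zero]
    obtain ⟨c, hc⟩ := (IsLocalizedModule.eq_zero_iff q.primeCompl (germₗ F x hx)).1 h1
    rw [Submonoid.smul_def, ← map_smul] at hc
    obtain ⟨d, hd, hds⟩ := h _ hc
    have h2 : germₗ F' x hx s = 0 := (IsLocalizedModule.eq_zero_iff q.primeCompl (germₗ F' x hx)).2
      ⟨⟨d * c, q.primeCompl.mul_mem hd c.2⟩, by rw [Submonoid.smul_def, mul_smul]; exact hds⟩
    have h3 := IsLocalizedModule.map_units (germₗ F' x hx) (⟨g, hg⟩ : q.primeCompl)
    rw [Module.End.isUnit_iff] at h3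
    apply h3.1
    exact (hs.trans h2).trans (smul_zero (A := F'.presheaf.stalk x) g).symm

variable (f : X ⟶ Y) {U : X.Opens} {V : Y.Opens} (e : U ≤ f ⁻¹ᵁ V)

/-- Flatness of the cokernel, on sections. -/
theorem isFlatOverAt_coker_iff (u : F' ⟶ F) (hU : IsAffineOpen U) (hV : IsAffineOpen V) (x : X) (hx : x ∈ U) :
    letI : Algebra Γ(Y, V) Γ(X, U) := (f.appLE V U e).hom.toAlgebra
    letI := baseModule f F e
    haveI : IsScalarTower Γ(Y, V) Γ(X, U) Γ(F, U) := .of_algebraMap_smul fun _ _ ↦ rfl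
    FlatMod.IsFlatOverAt f (cokernel u) x ↔
      Module.Flat Γ(Y, V) (LocalizedModule (hU.primeIdealOf ⟨x, hx⟩).asIdeal.primeCompl
        (Γ(F, U) ⧸ LinearMap.range (appL u U))) := by
  letI : Algebra Γ(Y, V) Γ(X, U) := (f.appLE V U e).hom.toAlgebra
  letI := baseModule f F e
  letI := baseModule f (cokernel u) e
  haveI : IsScalarTower Γ(Y, V) Γ(X, U) Γ(F, U) := .of_algebraMap_smul fun _ _ ↦ rfl
  haveI : IsScalarTower Γ(Y, V) Γ(X, U) Γ(cokernel u, U) := .of_algebraMap_smul fun _ _ ↦ rfl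
  haveI : (cokernel u).IsQuasicoherent := isQuasicoherent_cokernel u ‹_› ‹_›
  obtain ⟨eC⟩ := exists_coker_sections_equiv u ‹_› ‹_› hU
  rw [FlatOverBC.isFlatOverAt_iff_localized f (cokernel u) e hU hV x hx]
  exact Module.Flat.equiv_iff
    (FlatLocus.localizedEquiv (S := Γ(Y, V)) eC (hU.primeIdealOf ⟨x, hx⟩).asIdeal.primeCompl).symm

/-- The condition of injectivity and flat cokernel, on sections. -/
theorem injFlat_iff (u : F' ⟶ F) (hU : IsAffineOpen U) (hV : IsAffineOpen V) (x : X) (hx : x ∈ U) :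
    letI : Algebra Γ(Y, V) Γ(X, U) := (f.appLE V U e).hom.toAlgebra
    letI := baseModule f F e
    haveI : IsScalarTower Γ(Y, V) Γ(X, U) Γ(F, U) := .of_algebraMap_smul fun _ _ ↦ rfl
    (Function.Injective ((TopCat.Presheaf.stalkFunctor Ab x).map (Scheme.Modules.Hom.mapPresheaf u)) ∧
        FlatMod.IsFlatOverAt f (cokernel u) x) ↔
      InjFlat Γ(Y, V) (appL u U) (hU.primeIdealOf ⟨x, hx⟩).asIdeal := by
  rw [injective_stalk_iff u hU x hx, isFlatOverAt_coker_iff f e u hU hV x hx]
  exact Iff.rfl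


/-- Membership of a germ in the fibre submodule, on sections. -/
theorem germ_mem_fibre_iff (M : X.Modules) [M.IsQuasicoherent] (f : X ⟶ Y) {U : X.Opens} {V : Y.Opens}
    (e : U ≤ f ⁻¹ᵁ V) (hU : IsAffineOpen U) (hV : IsAffineOpen V) (x : X) (hx : x ∈ U) (s : Γ(M, U)) :
    letI : Algebra Γ(Y, V) Γ(X, U) := (f.appLE V U e).hom.toAlgebra
    letI q := (hU.primeIdealOf ⟨x, hx⟩).asIdeal
    (M.presheaf.germ U x hx s : M.presheaf.stalk x) ∈
        Ideal.map (f.stalkMap x).hom (IsLocalRing.maximalIdeal (Y.presheaf.stalk (f x))) •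
          (⊤ : Submodule (X.presheaf.stalk x) (M.presheaf.stalk x)) ↔
      ∃ g ∉ q, g • s ∈ (q.comap (algebraMap Γ(Y, V) Γ(X, U))).map (algebraMap Γ(Y, V) Γ(X, U)) •
        (⊤ : Submodule Γ(X, U) Γ(M, U)) := by
  letI : Algebra Γ(Y, V) Γ(X, U) := (f.appLE V U e).hom.toAlgebra
  let q := (hU.primeIdealOf ⟨x, hx⟩).asIdeal
  letI := germModule M x hx
  haveI := isLocalizedModule_germₗ M hU x hx
  letI : Algebra Γ(X, U) (X.presheaf.stalk x) := (X.presheaf.germ U x hx).hom.toAlgebra
  haveI : IsLocalization.AtPrime (X.presheaf.stalk x) q := hU.isLocalization_stalk ⟨x, hx⟩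
  haveI : IsScalarTower Γ(X, U) (X.presheaf.stalk x) (M.presheaf.stalk x) :=
    .of_algebraMap_smul fun _ _ ↦ rfl
  letI : Algebra Γ(Y, V) (Y.presheaf.stalk (f x)) := (Y.presheaf.germ V (f x) (e hx)).hom.toAlgebra
  let p₀ := (hV.primeIdealOf ⟨f x, e hx⟩).asIdeal
  haveI : IsLocalization.AtPrime (Y.presheaf.stalk (f x)) p₀ := hV.isLocalization_stalk ⟨f x, e hx⟩
  have hcomp : (f.stalkMap x).hom.comp (Y.presheaf.germ V (f x) (e hx)).hom =
      (X.presheaf.germ U x hx).hom.comp (f.appLE V U e).hom :=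
    RingHom.ext fun r => germ_appLE_stalkMap f e x hx r
  have hp : p₀ = q.comap (algebraMap Γ(Y, V) Γ(X, U)) := by
    rw [show q = (IsLocalRing.maximalIdeal (X.presheaf.stalk x)).comap (algebraMap Γ(X, U) _) from
      (IsLocalization.AtPrime.comap_maximalIdeal (X.presheaf.stalk x) q).symm,
      show p₀ = (IsLocalRing.maximalIdeal (Y.presheaf.stalk (f x))).comap (algebraMap Γ(Y, V) _) from
      (IsLocalization.AtPrime.comap_maximalIdeal (Y.presheaf.stalk (f x)) p₀).symm,
      Ideal.comap_comap]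
    refine (congrArg (Ideal.comap (algebraMap Γ(Y, V) (Y.presheaf.stalk (f x))))
      (IsLocalRing.maximalIdeal_comap (f.stalkMap x).hom).symm).trans ((Ideal.comap_comap _ _).trans ?_)
    exact congrArg (fun φ => Ideal.comap φ (IsLocalRing.maximalIdeal (X.presheaf.stalk x))) hcomp
  have hJ : Ideal.map (f.stalkMap x).hom (IsLocalRing.maximalIdeal (Y.presheaf.stalk (f x))) =
      ((q.comap (algebraMap Γ(Y, V) Γ(X, U))).map (algebraMap Γ(Y, V) Γ(X, U))).map
        (algebraMap Γ(X, U) (X.presheaf.stalk x)) := by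
    rw [← hp, ← IsLocalization.AtPrime.map_eq_maximalIdeal p₀ (Y.presheaf.stalk (f x))]
    exact (Ideal.map_map _ _).trans ((congrArg (fun φ => Ideal.map φ p₀) hcomp).trans (Ideal.map_map _ _).symm)
  rw [hJ]
  exact mem_map_smul_localized_iff q (germₗ M x hx) _ s

end Groth.Agent.FlatInjCoker
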